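import Groth.Agent.GrModLib.Twist
import Groth.Agent.GrModLib.Section
import Groth.Agent.GrModLib.QCoh

/-! Degree-zero localisations of a finitely presented graded algebra are finitely presented. -/

set_option autoImplicit false
set_option linter.style.haveILetI false
set_option linter.unusedSectionVars false
set_option backward.isDefEq.respectTransparency false

universe u

open CategoryTheory TopologicalSpace AlgebraicGeometry Opposite HomogeneousLocalization
open Groth.Agent.GrModLib

noncomputable section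

namespace Groth.Agent.ProjFPLib

open TensorProduct in
/-- Finite presentation passes along a surjection of base rings. -/
theorem moduleFP_of_surjective (R S M : Type u) [CommRing R] [CommRing S] [Algebra R S] [AddCommGroup M] [Module R M]
    [Module S M] [IsScalarTower R S M] (h : Function.Surjective (algebraMap R S)) [Module.FinitePresentation R M] :
    Module.FinitePresentation S M := by
  let l : S ⊗[R] M →ₗ[S] M := (LinearMap.id : M →ₗ[R] M).liftBaseChange S
  have hone : ∀ x : S ⊗[R] M, x = 1 ⊗ₜ[R] l x := by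
    intro x
    induction x using TensorProduct.induction_on with
    | zero => simp
    | tmul s m =>
      obtain ⟨r, rfl⟩ := h s
      rw [show l (algebraMap R S r ⊗ₜ[R] m) = algebraMap R S r • m from LinearMap.liftBaseChange_tmul ..,
        algebraMap_smul, TensorProduct.tmul_smul, TensorProduct.smul_tmul', Algebra.algebraMap_eq_smul_one]
    | add a b ha hb => rw [map_add, TensorProduct.tmul_add, ← ha, ← hb]
  refine Module.FinitePresentation.of_equiv (LinearEquiv.ofBijective l ⟨fun a b hab => ?_, fun m => ⟨1 ⊗ₜ[R] m, ?_⟩⟩)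
  · rw [hone a, hone b, hab]
  · exact (LinearMap.liftBaseChange_tmul ..).trans (one_smul S m)

theorem moduleFP_of_retract {Q B T : Type u} [CommRing Q] [AddCommGroup B] [Module Q B] [AddCommGroup T] [Module Q T]
    [Module.FinitePresentation Q B] (r : B →ₗ[Q] T) (s : T →ₗ[Q] B) (h : ∀ t, r (s t) = t) :
    Module.FinitePresentation Q T := by
  refine Module.finitePresentation_of_surjective r (fun t => ⟨s t, h t⟩) ?_
  have e : LinearMap.ker r = LinearMap.range (LinearMap.id - s.comp r) := by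
    ext x
    constructor
    · intro hx
      exact ⟨x, by simp [LinearMap.mem_ker.1 hx]⟩
    · rintro ⟨y, rfl⟩
      simp [h]
  rw [e]
  exact Submodule.fg_range _

/-- An algebra retract with finite overring: `C` is finitely presented if `B` is. -/
theorem finitePresentation_of_retract {R C B : Type u} [CommRing R] [CommRing C] [CommRing B] [Algebra R C]
    [Algebra C B] [Algebra R B] [IsScalarTower R C B] [Algebra.FinitePresentation R B] [Algebra.IsIntegral C B]
    (r : B →ₗ[C] C) (hr : r 1 = 1) : Algebra.FinitePresentation R C ∧ Module.FinitePresentation C B := by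
  classical
  haveI : Algebra.FiniteType R B := inferInstance
  obtain ⟨s, hs⟩ := Algebra.FiniteType.out (R := R) (A := B)
  choose P hPm hP using fun b : B => Algebra.IsIntegral.isIntegral (R := C) b
  let cs : Finset C := s.biUnion fun b => (P b).coeffs
  let φ : MvPolynomial cs R →ₐ[R] C := MvPolynomial.aeval fun c => c.1
  letI : Algebra (MvPolynomial cs R) C := φ.toRingHom.toAlgebra
  letI : Algebra (MvPolynomial cs R) B := ((algebraMap C B).comp φ.toRingHom).toAlgebra
  haveI : IsScalarTower R (MvPolynomial cs R) C := .of_algebraMap_eq fun x => (φ.commutes x).symm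
  haveI : IsScalarTower (MvPolynomial cs R) C B := .of_algebraMap_eq fun x => rfl
  haveI : IsScalarTower R (MvPolynomial cs R) B := .of_algebraMap_eq fun x => by
    show algebraMap R B x = algebraMap C B (φ (algebraMap R _ x))
    rw [φ.commutes, ← IsScalarTower.algebraMap_apply]
  have hint : ∀ b ∈ s, IsIntegral (MvPolynomial cs R) b := by
    intro b hb
    rcases subsingleton_or_nontrivial C with hC | hC
    · haveI := Module.subsingleton C B
      rw [Subsingleton.elim b 0]
      exact isIntegral_zero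
    have hl : P b ∈ Polynomial.lifts φ.toRingHom := by
      rw [Polynomial.lifts_iff_coeff_lifts]
      intro m
      by_cases h0 : (P b).coeff m = 0
      · exact ⟨0, by rw [map_zero, h0]⟩
      · exact ⟨MvPolynomial.X ⟨(P b).coeff m, Finset.mem_biUnion.2 ⟨b, hb, Polynomial.coeff_mem_coeffs h0⟩⟩,
          by simp [φ]⟩
    obtain ⟨q, hq, -, hqm⟩ := Polynomial.lifts_and_degree_eq_and_monic hl (hPm b)
    refine ⟨q, hqm, ?_⟩
    rw [← hP b, ← hq, Polynomial.eval₂_map]
    rfl
  haveI : Module.Finite (MvPolynomial cs R) B := by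
    have htop : Algebra.adjoin (MvPolynomial cs R) (s : Set B) = ⊤ := by
      rw [eq_top_iff]
      intro x hx'
      clear hx'
      have hx : x ∈ Algebra.adjoin R (s : Set B) := hs ▸ Algebra.mem_top
      induction hx using Algebra.adjoin_induction with
      | mem x hx => exact Algebra.subset_adjoin hx
      | algebraMap r =>
        rw [IsScalarTower.algebraMap_apply R (MvPolynomial cs R) B]
        exact Subalgebra.algebraMap_mem _ _
      | add a b _ _ ha hb => exact add_mem ha hb
      | mul a b _ _ ha hb => exact mul_mem ha hb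
    have hfg := fg_adjoin_of_finite s.finite_toSet hint
    rw [htop, Algebra.top_toSubmodule] at hfg
    exact ⟨hfg⟩
  haveI : Algebra.FinitePresentation (MvPolynomial cs R) B :=
    Algebra.FinitePresentation.of_restrict_scalars_finitePresentation R (MvPolynomial cs R) B
  haveI := Module.FinitePresentation.of_finite_of_finitePresentation (MvPolynomial cs R) B
  haveI : Module.FinitePresentation (MvPolynomial cs R) C :=
    moduleFP_of_retract (r.restrictScalars (MvPolynomial cs R))
      ((Algebra.linearMap C B).restrictScalars (MvPolynomial cs R)) fun c => by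
        show r (algebraMap C B c) = c
        rw [Algebra.algebraMap_eq_smul_one, map_smul, hr, smul_eq_mul, mul_one]
  haveI : Algebra.FinitePresentation (MvPolynomial cs R) C := inferInstance
  haveI hC : Algebra.FinitePresentation R C := Algebra.FinitePresentation.trans R (MvPolynomial cs R) C
  refine ⟨hC, ?_⟩
  haveI : Algebra.FinitePresentation C B := Algebra.FinitePresentation.of_restrict_scalars_finitePresentation R C B
  haveI : Module.Finite C B := Module.Finite.of_restrictScalars_finite (MvPolynomial cs R) C B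
  exact Module.FinitePresentation.of_finite_of_finitePresentation C B

/-! ### The graded setting -/

variable {A σ : Type u} [CommRing A] [SetLike σ A] [AddSubgroupClass σ A] {𝒜 : ℕ → σ} [GradedRing 𝒜]
variable (d : ℕ) (f : A) (n : ℤ)

/-- `a` may serve as the numerator of a fraction of degree `n` over `f ^ k`. -/
def IsNum (𝒜 : ℕ → σ) (k : ℕ) (a : A) : Prop := ∃ i : ℕ, (i : ℤ) = k * d + n ∧ a ∈ 𝒜 i

variable {d f n}

theorem IsNum.mul_pow (hf : f ∈ 𝒜 d) {k : ℕ} {a : A} (h : IsNum d n 𝒜 k a) (t : ℕ) :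
    IsNum d n 𝒜 (k + t) (f ^ t * a) := by
  obtain ⟨i, hi, ha⟩ := h
  exact ⟨t * d + i, by push_cast; rw [hi]; ring,
    SetLike.mul_mem_graded (by simpa [smul_eq_mul] using SetLike.pow_mem_graded t hf) ha⟩

theorem IsNum.mul {k m : ℕ} {a b : A} (h : IsNum d n 𝒜 k a) (hb : b ∈ 𝒜 (m • d)) :
    IsNum d n 𝒜 (m + k) (b * a) := by
  obtain ⟨i, hi, ha⟩ := h
  refine ⟨m * d + i, by push_cast; rw [hi]; ring, ?_⟩
  rw [← smul_eq_mul]
  exact SetLike.mul_mem_graded hb ha

theorem IsNum.add {k : ℕ} {a b : A} (ha : IsNum d n 𝒜 k a) (hb : IsNum d n 𝒜 k b) : IsNum d n 𝒜 k (a + b) := by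
  obtain ⟨i, hi, ha⟩ := ha
  obtain ⟨j, hj, hb⟩ := hb
  have : i = j := by omega
  subst this
  exact ⟨i, hi, add_mem ha hb⟩

variable (𝒜 d f n) in
/-- A compatible system of maps on numerators. -/
structure Num (hf : f ∈ 𝒜 d) (T : Type u) [AddCommGroup T] [Module (Away 𝒜 f) T] where
  num : ∀ (k : ℕ) (a : A), IsNum d n 𝒜 k a → T
  mk_add : ∀ (k : ℕ) (a b : A) (ha : IsNum d n 𝒜 k a) (hb : IsNum d n 𝒜 k b),
    num k (a + b) (ha.add hb) = num k a ha + num k b hb
  mk_shift : ∀ (k t : ℕ) (a : A) (ha : IsNum d n 𝒜 k a), num (k + t) (f ^ t * a) (ha.mul_pow hf t) = num k a ha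
  mk_mul : ∀ (k m : ℕ) (a b : A) (ha : IsNum d n 𝒜 k a) (hb : b ∈ 𝒜 (m • d)),
    num (m + k) (b * a) (ha.mul hb) = Away.mk 𝒜 hf m b hb • num k a ha

variable {hd : 0 < d} {hf : f ∈ 𝒜 d} {T : Type u} [AddCommGroup T] [Module (Away 𝒜 f) T]
  (N : Num 𝒜 d f n hf T)

namespace Num

theorem mk_congr {k k' : ℕ} {a a' : A} (hk : k = k') (ha : a = a') (h : IsNum d n 𝒜 k a)
    (h' : IsNum d n 𝒜 k' a') : N.num k a h = N.num k' a' h' := by
  subst hk; subst ha; rfl

theorem mk_zero {k : ℕ} (h : IsNum d n 𝒜 k 0) : N.num k 0 h = 0 := by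
  have e := N.mk_add k 0 0 h h
  have e' : N.num k (0 + 0) (h.add h) = N.num k 0 h := N.mk_congr rfl (add_zero _) _ _
  rw [e'] at e
  simpa using e

include hd in
/-- The index and exponent used for degree `i`. -/
theorem exists_idx (i : ℕ) (h : (d : ℤ) ∣ (i : ℤ) - n) :
    ∃ k j : ℕ, ((j * d + i : ℕ) : ℤ) = k * d + n := by
  obtain ⟨q, hq⟩ := h
  refine ⟨(q + n.natAbs).toNat, n.natAbs, ?_⟩
  have h1 : 0 ≤ q + n.natAbs := by
    by_contra hc
    push Not at hc
    have h2 : (d : ℤ) * q ≤ (d : ℤ) * (-(n.natAbs : ℤ) - 1) := mul_le_mul_of_nonneg_left (by omega) (by omega)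
    have h3 : (n.natAbs : ℤ) ≤ d * n.natAbs := le_mul_of_one_le_left (by omega) (by omega)
    have h4 : (d : ℤ) * (-(n.natAbs : ℤ) - 1) = -((d : ℤ) * n.natAbs) - d := by ring
    omega
  rw [Int.toNat_of_nonneg h1]
  push_cast
  rw [add_mul, mul_comm q]
  omega

include hf in
theorem isNum_of_idx {i k j : ℕ} {a : A} (ha : a ∈ 𝒜 i) (h : ((j * d + i : ℕ) : ℤ) = k * d + n) :
    IsNum d n 𝒜 k (f ^ j * a) :=
  ⟨_, h, SetLike.mul_mem_graded (by simpa [smul_eq_mul] using SetLike.pow_mem_graded j hf) ha⟩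

open Classical in
/-- The map on degree `i`. -/
def comp (hd : 0 < d) (N : Num 𝒜 d f n hf T) (i : ℕ) : 𝒜 i →+ T :=
  if h : (d : ℤ) ∣ (i : ℤ) - n then
    AddMonoidHom.mk' (fun a => N.num (exists_idx (hd := hd) i h).choose (f ^ (exists_idx (hd := hd) i h).choose_spec.choose * a.1)
      (isNum_of_idx (hf := hf) a.2 (exists_idx (hd := hd) i h).choose_spec.choose_spec)) fun a b => by
        rw [← N.mk_add]
        exact N.mk_congr rfl (by rw [← mul_add]; rfl) _ _
  else 0

open Classical in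
theorem comp_eq {i : ℕ} (a : 𝒜 i) {k j : ℕ} (h : ((j * d + i : ℕ) : ℤ) = k * d + n) :
    comp hd N i a = N.num k (f ^ j * a.1) (isNum_of_idx (hf := hf) a.2 h) := by
  have hdvd : (d : ℤ) ∣ (i : ℤ) - n := ⟨(k : ℤ) - j, by push_cast at h; linarith⟩
  rw [comp, dif_pos hdvd, AddMonoidHom.mk'_apply]
  set k₀ := (exists_idx (hd := hd) i hdvd).choose
  set j₀ := (exists_idx (hd := hd) i hdvd).choose_spec.choose
  have h₀ : ((j₀ * d + i : ℕ) : ℤ) = k₀ * d + n := (exists_idx (hd := hd) i hdvd).choose_spec.choose_spec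
  have hk : k₀ + j = k + j₀ := by
    have e : ((k₀ + j : ℕ) : ℤ) * d = ((k + j₀ : ℕ) : ℤ) * d := by push_cast at h h₀ ⊢; linarith
    exact Int.ofNat_inj.1 (mul_right_cancel₀ (by exact_mod_cast hd.ne') e)
  rw [← N.mk_shift k₀ j, ← N.mk_shift k j₀]
  exact N.mk_congr hk (by ring) _ _

open Classical in
/-- The total map `A → T`. -/
def total (hd : 0 < d) : A →+ T :=
  (DirectSum.toAddMonoid (comp hd N)).comp (DirectSum.decomposeAddEquiv 𝒜).toAddMonoidHom

open Classical in
theorem total_hom {i : ℕ} {a : A} (ha : a ∈ 𝒜 i) : total N hd a = comp hd N i ⟨a, ha⟩ := by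
  show DirectSum.toAddMonoid (comp hd N) (DirectSum.decompose 𝒜 a) = _
  rw [DirectSum.decompose_of_mem 𝒜 ha, DirectSum.toAddMonoid_of]

open Classical in
theorem total_zero {i : ℕ} {a : A} (ha : a ∈ 𝒜 i) (h : ¬ (d : ℤ) ∣ (i : ℤ) - n) : total N hd a = 0 := by
  rw [total_hom N ha, comp, dif_neg h]
  rfl

theorem total_num {k : ℕ} {a : A} (h : IsNum d n 𝒜 k a) : total N hd a = N.num k a h := by
  obtain ⟨i, hi, ha⟩ := id h
  rw [total_hom N ha, comp_eq N ⟨a, ha⟩ (k := k) (j := 0) (by simpa using hi)]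
  exact N.mk_congr rfl (by simp) _ _

theorem total_mul (a : A) {m : ℕ} {b : A} (hb : b ∈ 𝒜 (m • d)) :
    total N hd (b * a) = Away.mk 𝒜 hf m b hb • total N hd a := by
  induction a using DirectSum.Decomposition.inductionOn 𝒜 with
  | zero => simp
  | add x y hx hy => rw [mul_add, map_add, map_add, hx, hy, smul_add]
  | @homogeneous i a =>
    have hba : b * (a : A) ∈ 𝒜 (m * d + i) := by simpa [smul_eq_mul] using SetLike.mul_mem_graded hb a.2
    by_cases h : (d : ℤ) ∣ (i : ℤ) - n
    · obtain ⟨k, j, hkj⟩ := exists_idx (hd := hd) i h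
      rw [total_hom N a.2, total_hom N hba, comp_eq N _ hkj,
        comp_eq N _ (k := m + k) (j := j) (by push_cast at hkj ⊢; linarith), ← N.mk_mul]
      exact N.mk_congr rfl (by ring) _ _
    · rw [total_zero N a.2 h, smul_zero, total_zero N hba]
      intro hc
      refine h ?_
      have e : ((m * d + i : ℕ) : ℤ) - n = (d : ℤ) * m + ((i : ℤ) - n) := by push_cast; ring
      exact (dvd_add_right (dvd_mul_right _ _)).1 (e ▸ hc)

theorem total_f_mul (hd : 0 < d) (a : A) : total N hd (f * a) = total N hd a := by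
  have h : f ∈ 𝒜 (1 • d) := by rwa [one_smul]
  rw [total_mul N a h]
  have e : Away.mk 𝒜 hf 1 f h = 1 := by
    apply val_injective
    rw [Away.val_mk, val_one]
    exact (congrArg₂ Localization.mk (pow_one f).symm rfl).trans
      (Localization.mk_self (⟨f ^ 1, 1, rfl⟩ : Submonoid.powers f))
  rw [e, one_smul]

theorem exists_num (hd : 0 < d) (a : A) : ∃ (k : ℕ) (a' : A) (h : IsNum d n 𝒜 k a'),
    ∀ {T' : Type u} [AddCommGroup T'] [Module (Away 𝒜 f) T'] (N' : Num 𝒜 d f n hf T'),
      total N' hd a = N'.num k a' h := by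
  have hz : ∀ k : ℕ, n.natAbs ≤ k → IsNum d n 𝒜 k 0 := fun k hk => ⟨((k : ℤ) * d + n).toNat,
    Int.toNat_of_nonneg (by
      have h1 : (k : ℤ) ≤ k * d := le_mul_of_one_le_right (by omega) (by omega)
      omega), zero_mem _⟩
  induction a using DirectSum.Decomposition.inductionOn 𝒜 with
  | zero => exact ⟨n.natAbs, 0, hz _ le_rfl, fun N' => by rw [map_zero, N'.mk_zero]⟩
  | @homogeneous i a =>
    by_cases h : (d : ℤ) ∣ (i : ℤ) - n
    · obtain ⟨k, j, hkj⟩ := exists_idx (hd := hd) i h
      exact ⟨k, f ^ j * a.1, isNum_of_idx (hf := hf) a.2 hkj, fun N' => by rw [total_hom N' a.2, comp_eq N' _ hkj]⟩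
    · exact ⟨n.natAbs, 0, hz _ le_rfl, fun N' => by rw [total_zero N' a.2 h, N'.mk_zero]⟩
  | add x y hx hy =>
    obtain ⟨k, x', hx', ex⟩ := hx
    obtain ⟨l, y', hy', ey⟩ := hy
    have h1 := hx'.mul_pow hf l
    have h2 : IsNum d n 𝒜 (k + l) (f ^ k * y') := by rw [add_comm k l]; exact hy'.mul_pow hf k
    refine ⟨k + l, f ^ l * x' + f ^ k * y', h1.add h2, fun N' => ?_⟩
    rw [map_add, ex N', ey N', N'.mk_add _ _ _ h1 h2, N'.mk_shift k l x' hx']
    refine congrArg (N'.num k x' hx' + ·) ?_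
    rw [← N'.mk_shift l k y' hy']
    exact N'.mk_congr (add_comm l k) rfl _ _

end Num

/-! ### The quotient by `f - 1` -/

variable (f) in
/-- The quotient setting `f = 1`. -/
abbrev Deh : Type u := A ⧸ Ideal.span ({f - 1} : Set A)

variable (f) in
theorem mk_f : Ideal.Quotient.mk (Ideal.span ({f - 1} : Set A)) f = 1 := by
  rw [← map_one (Ideal.Quotient.mk (Ideal.span ({f - 1} : Set A))), Ideal.Quotient.eq]
  exact Ideal.subset_span rfl

variable (𝒜 f) in
/-- `A_(f) → A/(f - 1)`. -/
def toDeh : Away 𝒜 f →+* Deh f :=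
  (IsLocalization.Away.lift f (S := Localization.Away f) (g := Ideal.Quotient.mk (Ideal.span ({f - 1} : Set A)))
    (by rw [mk_f]; exact isUnit_one)).comp (algebraMap (Away 𝒜 f) (Localization.Away f))

theorem toDeh_mk (m : ℕ) (b : A) (hb : b ∈ 𝒜 (m • d)) (hf : f ∈ 𝒜 d) :
    toDeh 𝒜 f (Away.mk 𝒜 hf m b hb) = Ideal.Quotient.mk (Ideal.span ({f - 1} : Set A)) b := by
  rw [toDeh, RingHom.comp_apply, HomogeneousLocalization.algebraMap_apply, Away.val_mk, Localization.mk_eq_mk',
    IsLocalization.Away.lift, IsLocalization.lift_mk', Units.mul_inv_eq_iff_eq_mul, IsUnit.coe_liftRight]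
  show Ideal.Quotient.mk _ b = Ideal.Quotient.mk _ b * Ideal.Quotient.mk _ (f ^ m)
  rw [map_pow, mk_f, one_pow, mul_one]

instance : Algebra (Away 𝒜 f) (Deh f) := (toDeh 𝒜 f).toAlgebra

variable (hf) in
/-- The classes of numerators. -/
def dehNum : Num 𝒜 d f n hf (Deh f) where
  num := fun k a _ => Ideal.Quotient.mk (Ideal.span ({f - 1} : Set A)) a
  mk_add := fun k a b _ _ => map_add _ a b
  mk_shift := fun k t a _ => by rw [map_mul, map_pow, mk_f, one_pow, one_mul]
  mk_mul := fun k m a b _ hb => by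
    rw [Algebra.smul_def, map_mul]
    exact congrArg (· * _) (toDeh_mk m b hb hf).symm

theorem isIntegral_deh (hd : 0 < d) (hf : f ∈ 𝒜 d) : Algebra.IsIntegral (Away 𝒜 f) (Deh f) := by
  refine ⟨fun x => ?_⟩
  obtain ⟨a, rfl⟩ := Ideal.Quotient.mk_surjective x
  induction a using DirectSum.Decomposition.inductionOn 𝒜 with
  | zero => rw [map_zero]; exact isIntegral_zero
  | add x y hx hy => rw [map_add]; exact hx.add hy
  | @homogeneous i a =>
    refine IsIntegral.of_pow hd ?_
    have hm : (a : A) ^ d ∈ 𝒜 (i • d) := by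
      simpa [smul_eq_mul, mul_comm] using SetLike.pow_mem_graded d a.2
    rw [← map_pow, ← toDeh_mk i _ hm hf]
    exact isIntegral_algebraMap

/-- The map out of `A/(f - 1)`. -/
def Num.desc (hd : 0 < d) : Deh f →ₗ[Away 𝒜 f] T where
  toFun := QuotientAddGroup.lift (Ideal.span ({f - 1} : Set A)).toAddSubgroup (N.total hd) (by
    intro x hx
    obtain ⟨c, rfl⟩ := Ideal.mem_span_singleton'.1 hx
    show N.total hd (c * (f - 1)) = 0
    rw [mul_sub, mul_one, map_sub, mul_comm, N.total_f_mul, sub_self])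
  map_add' := map_add _
  map_smul' := by
    intro c x
    obtain ⟨a, rfl⟩ := Ideal.Quotient.mk_surjective x
    obtain ⟨m, b, hb, rfl⟩ := Away.mk_surjective 𝒜 hf c
    show QuotientAddGroup.lift _ (N.total hd) _ (toDeh 𝒜 f _ * Ideal.Quotient.mk _ a) = _
    rw [toDeh_mk, ← map_mul]
    exact N.total_mul a hb

theorem Num.desc_mk (a : A) : N.desc hd (Ideal.Quotient.mk _ a) = N.total hd a := rfl

theorem Num.finitePresentation (hd : 0 < d) (hB : Module.FinitePresentation (Away 𝒜 f) (Deh f))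
    (surj : ∀ t : T, ∃ (k : ℕ) (a : A) (h : IsNum d n 𝒜 k a), N.num k a h = t)
    (ker : ∀ (k : ℕ) (a : A) (h : IsNum d n 𝒜 k a), N.num k a h = 0 → ∃ j : ℕ, f ^ j * a = 0) :
    Module.FinitePresentation (Away 𝒜 f) T := by
  let r := N.desc hd
  let e := (dehNum (n := n) hf).desc hd
  have hsurj : Function.Surjective r := fun t => by
    obtain ⟨k, a, h, rfl⟩ := surj t
    exact ⟨Ideal.Quotient.mk _ a, (N.desc_mk a).trans (N.total_num h)⟩
  have hre : ∀ x, r (e x) = r x := fun x => by
    obtain ⟨a, rfl⟩ := Ideal.Quotient.mk_surjective x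
    obtain ⟨k, a', h, ha'⟩ := Num.exists_num (hf := hf) (n := n) hd a
    rw [show e (Ideal.Quotient.mk _ a) = Ideal.Quotient.mk _ a' from ha' (dehNum hf)]
    exact (N.total_num h).trans (ha' N).symm
  have hker : LinearMap.ker r ≤ LinearMap.ker e := fun x hx => by
    obtain ⟨a, rfl⟩ := Ideal.Quotient.mk_surjective x
    obtain ⟨k, a', h, ha'⟩ := Num.exists_num (hf := hf) (n := n) hd a
    obtain ⟨j, hj⟩ := ker k a' h ((ha' N).symm.trans hx)
    show e (Ideal.Quotient.mk _ a) = 0
    rw [show e (Ideal.Quotient.mk _ a) = Ideal.Quotient.mk _ a' from ha' (dehNum hf)]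
    have := congrArg (Ideal.Quotient.mk (Ideal.span ({f - 1} : Set A))) hj
    rwa [map_mul, map_pow, mk_f, one_pow, one_mul, map_zero] at this
  let s : T →ₗ[Away 𝒜 f] Deh f :=
    ((LinearMap.ker r).liftQ e hker).comp (r.quotKerEquivOfSurjective hsurj).symm.toLinearMap
  refine moduleFP_of_retract r s fun t => ?_
  obtain ⟨x, rfl⟩ := hsurj t
  have : (r.quotKerEquivOfSurjective hsurj).symm (r x) = Submodule.Quotient.mk x :=
    (LinearEquiv.symm_apply_eq _).2 rfl
  show r ((LinearMap.ker r).liftQ e hker ((r.quotKerEquivOfSurjective hsurj).symm (r x))) = r x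
  rw [this]
  exact hre x

/-- Fractions of degree zero. -/
def awayNum (hf : f ∈ 𝒜 d) : Num 𝒜 d f 0 hf (Away 𝒜 f) where
  num := fun k a h => Away.mk 𝒜 hf k a (by
    obtain ⟨i, hi, ha⟩ := h
    have : i = k • d := by rw [smul_eq_mul]; omega
    exact this ▸ ha)
  mk_add := fun k a b _ _ => by
    apply val_injective
    rw [val_add, Away.val_mk, Away.val_mk, Away.val_mk, Localization.add_mk_self]
  mk_shift := fun k t a _ => by
    apply val_injective
    rw [Away.val_mk, Away.val_mk, Localization.mk_eq_mk_iff, Localization.r_iff_exists]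
    exact ⟨1, by simp only [OneMemClass.coe_one, one_mul, pow_add]; ring⟩
  mk_mul := fun k m a b _ hb => by
    apply val_injective
    show _ = HomogeneousLocalization.val (Away.mk 𝒜 hf m b hb * Away.mk 𝒜 hf k a _)
    rw [val_mul, Away.val_mk, Away.val_mk, Away.val_mk, Localization.mk_mul]
    exact congrArg (Localization.mk _) (Subtype.ext (pow_add f m k))

theorem fpow (hf : f ∈ 𝒜 d) (k : ℕ) : f ^ k ∈ 𝒜 (k * d) := by simpa [smul_eq_mul] using SetLike.pow_mem_graded k hf

/-- A finitely presented graded algebra has finitely presented degree-zero localisations. -/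
theorem finitePresentation_away {R : Type u} [CommRing R] [Algebra R A] [Algebra.FinitePresentation R A]
    (hR : ∀ r : R, algebraMap R A r ∈ 𝒜 0) (hd : 0 < d) (hf : f ∈ 𝒜 d) :
    ((fromZeroRingHom 𝒜 (Submonoid.powers f)).comp ((algebraMap R A).codRestrict (SetLike.GradeZero.subring 𝒜) hR)).FinitePresentation ∧
      Module.FinitePresentation (Away 𝒜 f) (Deh f) := by
  set φ := (fromZeroRingHom 𝒜 (Submonoid.powers f)).comp ((algebraMap R A).codRestrict (SetLike.GradeZero.subring 𝒜) hR)
  letI := φ.toAlgebra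
  haveI : IsScalarTower R (Away 𝒜 f) (Deh f) := .of_algebraMap_eq fun r => by
    show Ideal.Quotient.mk _ (algebraMap R A r) = toDeh 𝒜 f (φ r)
    rw [← toDeh_mk 0 _ (by simpa using hR r : algebraMap R A r ∈ 𝒜 (0 • d)) hf]
    congr 1
    apply val_injective
    rw [Away.val_mk]
    show Localization.mk _ _ = Localization.mk _ _
    exact congrArg (Localization.mk _) (Subtype.ext (pow_zero f))
  haveI : Algebra.FinitePresentation R (Deh f) :=
    Algebra.FinitePresentation.quotient ⟨{f - 1}, by simp⟩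
  haveI := isIntegral_deh hd hf
  refine finitePresentation_of_retract ((awayNum hf).desc hd) ?_
  have h1 : IsNum d 0 𝒜 0 (1 : A) := ⟨0, by simp, SetLike.GradedOne.one_mem⟩
  rw [show (1 : Deh f) = Ideal.Quotient.mk _ 1 from rfl, Num.desc_mk, Num.total_num _ h1]
  apply val_injective
  show HomogeneousLocalization.val (Away.mk 𝒜 hf 0 1 _) = _
  rw [Away.val_mk, val_one, ← Localization.mk_one]
  exact congrArg (Localization.mk _) (Subtype.ext (pow_zero f))

/-- Fractions of degree `n` as sections of `O(n)`. -/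
def sectNum (hf : f ∈ 𝒜 d) {V : (Proj 𝒜).Opens} (hV : V = Proj.basicOpen 𝒜 f)
    [Module (Away 𝒜 f) Γ(GrMod.tilde 𝒜 𝒜 n, V)]
    (hsm : ∀ (c : Away 𝒜 f) (s : Γ(GrMod.tilde 𝒜 𝒜 n, V)) (x : V),
      valAt (c • s) x = ((Proj.awayToSection 𝒜 f c : GrTwist.O (𝒜 := 𝒜) (op (Proj.basicOpen 𝒜 f))).1 ⟨x.1, hV ▸ x.2⟩).val •
        valAt s x) :
    Num 𝒜 d f n hf Γ(GrMod.tilde 𝒜 𝒜 n, V) where
  num := fun k a h => frac 𝒜 𝒜 (⟨a, h.choose_spec.2⟩ : 𝒜 h.choose) (⟨f ^ k, fpow hf k⟩ : 𝒜 (k * d)) n
    (by push_cast; exact h.choose_spec.1) (fun x hx hm => (hV ▸ hx : x ∈ Proj.basicOpen 𝒜 f) (x.isPrime.mem_of_pow_mem k hm))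
  mk_add := fun k a b _ _ => sect_ext fun x => by
    rw [valAt_add, valAt_frac, valAt_frac, valAt_frac]
    refine ((LocalizedModule.mk_add_mk).trans (LocalizedModule.mk_eq.2 ⟨1, ?_⟩)).symm
    simp only [one_smul, Submonoid.smul_def, Submonoid.coe_mul, smul_eq_mul]
    ring
  mk_shift := fun k t a _ => sect_ext fun x => by
    rw [valAt_frac, valAt_frac]
    refine LocalizedModule.mk_eq.2 ⟨1, ?_⟩
    simp only [one_smul, Submonoid.smul_def, smul_eq_mul, pow_add]
    ring
  mk_mul := fun k m a b _ hb => sect_ext fun x => by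
    rw [hsm, val_awayToSection, valAt_frac, valAt_frac, LocalizedModule.mk_smul_mk]
    exact congrArg (LocalizedModule.mk _) (Subtype.ext (pow_add f m k))

theorem finitePresentation_sections (hd : 0 < d) (hf : f ∈ 𝒜 d) {V : (Proj 𝒜).Opens} (hV : V = Proj.basicOpen 𝒜 f)
    [Module (Away 𝒜 f) Γ(GrMod.tilde 𝒜 𝒜 n, V)]
    (hsm : ∀ (c : Away 𝒜 f) (s : Γ(GrMod.tilde 𝒜 𝒜 n, V)) (x : V),
      valAt (c • s) x = ((Proj.awayToSection 𝒜 f c : GrTwist.O (𝒜 := 𝒜) (op (Proj.basicOpen 𝒜 f))).1 ⟨x.1, hV ▸ x.2⟩).val •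
        valAt s x)
    (hB : Module.FinitePresentation (Away 𝒜 f) (Deh f)) :
    Module.FinitePresentation (Away 𝒜 f) Γ(GrMod.tilde 𝒜 𝒜 n, V) := by
  subst hV
  refine (sectNum hf rfl hsm).finitePresentation hd hB (fun t => ?_) (fun k a h ha => ?_)
  · obtain ⟨p, i, m, hi, hm⟩ := exists_frac_eq (ℳ := 𝒜) hd hf t
    exact ⟨p, m.1, ⟨i, hi, m.2⟩, sect_ext fun x => (hm x).symm⟩
  · obtain ⟨j, hj⟩ := exists_pow_smul_eq_zero' (ℳ := 𝒜) hd hf (⟨a, h.choose_spec.2⟩ : 𝒜 h.choose)
      (fun x => ⟨f ^ k, fun hm => x.2 (x.1.isPrime.mem_of_pow_mem k hm)⟩) fun x =>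
      (congrArg (fun s => valAt s x) ha).trans (valAt_zero x)
    exact ⟨j, by simpa using hj⟩

end Groth.Agent.ProjFPLib
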